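import Groth.Agent.Lib.NullCorrEx28.Symplectic

/-!
# Existence of null-correlation bundles
-/

set_option autoImplicit false
set_option maxHeartbeats 800000
set_option linter.all false
set_option backward.isDefEq.respectTransparency false

universe u

open CategoryTheory CategoryTheory.Limits AlgebraicGeometry Opposite TopologicalSpace
open GrothLib.QCoh (stalkLin)
open GrothLib.CMReg (ftFun)

noncomputable section

namespace GrothLib.NullCorrEx28

theorem exists_twist {k : Type u} [Field k] {n r : ℕ}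
    {B : (CohB1.ProjSpace n k).Modules}
    (θ : CohB1.tensorMod (Twist.twistProjSpace n k (-1)) (Twist.twistProjSpace n k (-1)) ⟶ B) (hm : Mono θ)
    (hrank : FlatMod.IsFinLocFreeOfRank r (cokernel θ)) :
    ∃ u : Twist.twistProjSpace n k (-1) ⟶ CohB1.tensorMod B (Twist.twistProjSpace n k 1),
      Mono u ∧ FlatMod.IsFinLocFreeOfRank r (cokernel u) := by
  haveI := hm
  obtain ⟨nn⟩ := CMReg.nonempty_twist_add (n := n) (k := k) (show (-1 : ℤ) + (-1) = -2 by norm_num)
  obtain ⟨d⟩ := CMReg.nonempty_twist_add (n := n) (k := k) (show (-2 : ℤ) + 1 = -1 by norm_num)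
  let S := ShortComplex.mk θ (cokernel.π θ) (cokernel.condition θ)
  have hS : S.ShortExact := { exact := ShortComplex.exact_of_g_is_cokernel _ (cokernelIsCokernel θ) }
  let T := S.map (ftFun (n := n) (k := k) 1)
  have hT : T.ShortExact := CMReg.ft_shortExact (n := n) (k := k) (S := S) hS 1
  let η : (ftFun (n := n) (k := k) 1).obj (Twist.twistProjSpace n k (-2)) ≅ Twist.twistProjSpace n k (-1) := d
  let ε : Twist.twistProjSpace n k (-1) ≅ T.X₁ :=
    η.symm.trans ((ftFun (n := n) (k := k) 1).mapIso nn.symm)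
  haveI := hT.mono_f
  haveI := hT.epi_g
  let u : Twist.twistProjSpace n k (-1) ⟶ CohB1.tensorMod B (Twist.twistProjSpace n k 1) := ε.hom ≫ T.f
  refine ⟨u, mono_comp _ _, ?_⟩
  let c : cokernel u ≅ T.X₃ := (cokernelEpiComp ε.hom T.f).trans
    ((cokernelIsCokernel T.f).coconePointUniqueUpToIso hT.gIsCokernel)
  refine OX.isFinLocFreeOfRank_of_iso c.symm ?_
  exact ASBun21.Horrocks.rank_tensor hrank
    (Euler.isFinLocFreeOfRank_one_of_invertible (ProjPic26.isInvertible_twistProjSpace n k 1))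

variable (k : Type u) [Field k]

theorem exists_null_correlation (q : ℕ) :
    ∃ u : Twist.twistProjSpace (2 * q + 1) k (-1) ⟶
        CohB1.tensorMod (Omega.sheaf (CohB1.ProjSpace.toSpec (2 * q + 1) k)) (Twist.twistProjSpace (2 * q + 1) k 1),
      Mono u ∧ FlatMod.IsFinLocFreeOfRank (2 * q) (cokernel u) := by
  haveI := Chow.isProper_toSpec (2 * q + 1) k
  haveI : IsNoetherian (CohB1.ProjSpace (2 * q + 1) k) :=
    Euler.isNoetherian_of_proper (X := CohB1.ProjSpace (2 * q + 1) k) k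
  obtain ⟨T, hT, ⟨e₁⟩, ⟨e₂⟩, ⟨e₃⟩⟩ := NullCorr27.exists_euler_sum (2 * q + 1) k
  haveI := hT.mono_f
  haveI := hT.epi_g
  let N := Twist.twistProjSpace (2 * q + 1) k (-1)
  have hN : PicF.IsInvertible N := ProjPic26.isInvertible_twistProjSpace (2 * q + 1) k (-1)
  let b : (∐ fun _ : Fin (2 * q + 1 + 1) => N) ⟶ Coh.structureModule (CohB1.ProjSpace (2 * q + 1) k) :=
    e₂.inv ≫ T.g ≫ e₃.hom
  haveI : Epi b := inferInstance
  let e : Fin (q + 1) ⊕ Fin (q + 1) ≃ Fin (2 * q + 1 + 1) := finSumFinEquiv.trans (finCongr (by omega))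
  let Θ₀ := Θ (fun j => e (Sum.inl j)) (fun j => e (Sum.inr j)) fun l => Sigma.ι (fun _ : Fin (2 * q + 1 + 1) => N) l ≫ b
  have h0 : (Θ₀ ≫ e₂.inv) ≫ T.g = 0 := by
    rw [← cancel_mono e₃.hom, zero_comp, Category.assoc, Category.assoc]
    exact Θ_comp hN _ _ b
  let θ : CohB1.tensorMod N N ⟶ T.X₁ := hT.exact.lift _ h0
  have hθ : θ ≫ T.f ≫ e₂.hom = Θ₀ := by
    rw [← Category.assoc, hT.exact.lift_f, Category.assoc, e₂.inv_hom_id, Category.comp_id]
  let θ' : CohB1.tensorMod N N ⟶ OmegaPn27.OmegaP (2 * q + 1) k := θ ≫ e₁.hom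
  obtain ⟨nn⟩ := CMReg.nonempty_twist_add (n := 2 * q + 1) (k := k) (show (-1 : ℤ) + (-1) = -2 by norm_num)
  have hNN : PicF.IsInvertible (CohB1.tensorMod N N) :=
    Ample.isInvertible_tensorMod hN hN
  have hB : FlatMod.IsFinLocFreeOfRank (2 * q + 1) (OmegaPn27.OmegaP (2 * q + 1) k) :=
    OmegaPn27.isFinLocFreeOfRank_omegaP (2 * q + 1) k
  obtain ⟨hmono, hrank⟩ := isFinLocFreeOfRank_coker hNN (r := 2 * q) hB θ' fun x => by
    obtain ⟨ρ, hρ⟩ := exists_retraction hN e b x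
    refine ⟨ρ ∘ₗ stalkLin (e₁.inv ≫ T.f ≫ e₂.hom) x, LinearMap.ext fun z => ?_⟩
    rw [LinearMap.comp_apply, LinearMap.comp_apply, ← QCoh.stalkLin_comp,
      show θ' ≫ e₁.inv ≫ T.f ≫ e₂.hom = Θ₀ by simp only [θ', Category.assoc, e₁.hom_inv_id_assoc, hθ]]
    exact LinearMap.congr_fun hρ z
  exact exists_twist (k := k) θ' hmono hrank

end GrothLib.NullCorrEx28
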