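import Groth.Agent.Lib.NullCorr27.Basic
import Groth.Agent.Lib.ASBun21.Horrocks
import Groth.Agent.Lib.RegSecEuler20.Step
import Groth.Agent.Lib.ProjFormula.Map
import Groth.Agent.Lib.Euler.Slope2
import Groth.Agent.Lib.OmegaFree.Basic
import Groth.Agent.Lib.SerreCor28.Stalk
import Groth.Agent.Lib.QCoh.DevissageSummands
import Groth.Agent.Lib.Euler.Torsion

/-!
# The symplectic section of `Ω(2)`
-/

set_option autoImplicit false
set_option maxHeartbeats 800000
set_option linter.all false
set_option backward.isDefEq.respectTransparency false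

universe u

open CategoryTheory CategoryTheory.Limits AlgebraicGeometry Opposite TopologicalSpace
open GrothLib.InvExt (mres IsGen)
open GrothLib.VA (tm)
open GrothLib.QCoh (stalkLin)

noncomputable section

namespace GrothLib.NullCorrEx28

variable {X : Scheme.{u}}

/-- Multiplication by a functional. -/
def mulL {A : X.Modules} (M : X.Modules) (α : A ⟶ Coh.structureModule X) : CohB1.tensorMod A M ⟶ M :=
  ((DCoh.tensorBi (X := X)).map α).app M ≫ (OX.tensorUnitLeftIso M).hom

theorem mulL_app {A M : X.Modules} (α : A ⟶ Coh.structureModule X) (U : X.Opens) (a : Γ(A, U)) (m : Γ(M, U)) :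
    (mulL M α).app U (tm a m) = (show Γ(X, U) from α.app U a) • m := by
  show (OX.tensorUnitLeftIso M).hom.app U ((((DCoh.tensorBi (X := X)).map α).app M).app U (tm a m)) = _
  rw [show (((DCoh.tensorBi (X := X)).map α).app M).app U (tm a m) = tm (α.app U a) m from
    ProjFormula.map_left_tmulSec α M U a m]
  exact ProjFormula.tensorUnitLeftIso_tmulSec M U _ m

/-- Two functionals on an invertible module commute. -/
theorem mulL_comm {N : X.Modules} (hN : PicF.IsInvertible N) (α β : N ⟶ Coh.structureModule X) :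
    mulL N α ≫ β = mulL N β ≫ α := by
  refine ProjFormula.hom_ext_tmul (A := N) (B := N) fun U s t => ?_
  show β.app U ((mulL N α).app U (tm (M := N) (N := N) s t)) = α.app U ((mulL N β).app U (tm (M := N) (N := N) s t))
  rw [mulL_app, mulL_app, Scheme.Modules.Hom.app_smul, Scheme.Modules.Hom.app_smul]
  have hex : ∀ y : U, ∃ V : X.Opens, y.1 ∈ V ∧ V ≤ U ∧ ∃ e, IsGen N V e := fun y => by
    obtain ⟨D, e, hy, he⟩ := InvExt.exists_gen_nhd hN y.1
    exact ⟨D ⊓ U, ⟨hy, y.2⟩, inf_le_right, _, he.restrict inf_le_left⟩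
  choose V hyV hVU e he using hex
  refine TopCat.Sheaf.eq_of_locally_eq' X.sheaf V U (fun y => homOfLE (hVU y))
    (fun y hy => Opens.mem_iSup.mpr ⟨⟨y, hy⟩, hyV ⟨y, hy⟩⟩) _ _ fun y => ?_
  obtain ⟨f, hf⟩ := (he y).exists_smul_eq le_rfl (mres N (hVU y) s)
  obtain ⟨g, hg⟩ := (he y).exists_smul_eq le_rfl (mres N (hVU y) t)
  rw [InvExt.mres_self] at hf hg
  have hφ : ∀ (γ : N ⟶ Coh.structureModule X) (a : Γ(N, U)) (c : Γ(X, V y)),
      mres N (hVU y) a = c • e y →
      InvExt.fres X (hVU y) (γ.app U a) = c * (show Γ(X, V y) from γ.app (V y) (e y)) := fun γ a c hc => by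
    refine ((InvExt.mres_app γ (hVU y) a).trans (congrArg (γ.app (V y)) hc)).trans ?_
    exact Scheme.Modules.Hom.app_smul γ c (e y)
  show InvExt.fres X (hVU y) ((show Γ(X, U) from α.app U s) * (show Γ(X, U) from β.app U t)) =
    InvExt.fres X (hVU y) ((show Γ(X, U) from β.app U s) * (show Γ(X, U) from α.app U t))
  simp only [InvExt.fres, map_mul]
  have h1 := hφ α s f hf
  have h2 := hφ β t g hg
  have h3 := hφ β s f hf
  have h4 := hφ α t g hg
  simp only [InvExt.fres] at h1 h2 h3 h4
  rw [h1, h2, h3, h4]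
  ring

/-- A functional which generates at `x` multiplies bijectively at `x`. -/
theorem bijective_mulL {N : X.Modules} (hN : PicF.IsInvertible N) (α : N ⟶ Coh.structureModule X) (x : X)
    (h : Function.Surjective (stalkLin α x)) : Function.Bijective (stalkLin (mulL N α) x) := by
  obtain ⟨V, e, hxV, he⟩ := InvExt.exists_gen_nhd hN x
  have g2 := Ref1.gen_of_isGen (VA.isGen_tm he he) hxV
  have g1 := Ref1.gen_of_isGen he hxV
  let c : X.presheaf.stalk x := X.presheaf.germ V x hxV (show Γ(X, V) from α.app V e)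
  have g0 := Ref1.gen_of_isGen (TensorGen.isGen_one (X := X) V) hxV
  have hval : stalkLin (mulL N α) x ((CohB1.tensorMod N N).presheaf.germ V x hxV (tm e e)) =
      c • N.presheaf.germ V x hxV e := by
    rw [QCoh.stalkLin_germ, mulL_app, WeakAss.germ_smul]
  have hα : stalkLin α x (N.presheaf.germ V x hxV e) =
      c • (Coh.structureModule X).presheaf.germ V x hxV (FinCov.one X V) := by
    rw [QCoh.stalkLin_germ, ← WeakAss.germ_smul, FinCov.smul_one]
  have hc : IsUnit c := by
    obtain ⟨z, hz⟩ := h ((Coh.structureModule X).presheaf.germ V x hxV (FinCov.one X V))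
    obtain ⟨a, rfl⟩ := g1.2 z
    dsimp only at hz
    rw [map_smul, hα, smul_smul] at hz
    exact IsUnit.of_mul_eq_one_right a (g0.1 (hz.trans (one_smul _ _).symm))
  refine ⟨fun p q hpq => ?_, fun y => ?_⟩
  · obtain ⟨a, rfl⟩ := g2.2 p
    obtain ⟨b, rfl⟩ := g2.2 q
    dsimp only at hpq ⊢
    rw [map_smul, map_smul, hval, smul_smul, smul_smul] at hpq
    rw [hc.mul_left_injective (g1.1 hpq)]
  · obtain ⟨b, rfl⟩ := g1.2 y
    obtain ⟨d, hd⟩ := hc.exists_left_inv
    refine ⟨(b * d) • (CohB1.tensorMod N N).presheaf.germ V x hxV (tm e e), ?_⟩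
    rw [map_smul, hval, smul_smul, mul_assoc, hd, mul_one]

theorem stalkLin_zero' {A B : X.Modules} (x : X) (z : A.presheaf.stalk x) : stalkLin (0 : A ⟶ B) x z = 0 := by
  have h := QCoh.stalkLin_add (0 : A ⟶ B) 0 x z
  rwa [add_zero, left_eq_add] at h

theorem stalkLin_sum' {A B : X.Modules} {ι : Type} (s : Finset ι) (g : ι → (A ⟶ B)) (x : X)
    (z : A.presheaf.stalk x) : stalkLin (∑ l ∈ s, g l) x z = ∑ l ∈ s, stalkLin (g l) x z := by
  classical
  induction s using Finset.induction_on with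
  | empty => simp only [Finset.sum_empty, stalkLin_zero']
  | insert a s ha ih => rw [Finset.sum_insert ha, Finset.sum_insert ha, QCoh.stalkLin_add, ih]

theorem stalkLin_neg' {A B : X.Modules} (f : A ⟶ B) (x : X) (z : A.presheaf.stalk x) :
    stalkLin (-f) x z = -stalkLin f x z :=
  eq_neg_of_add_eq_zero_left (by rw [← QCoh.stalkLin_add, neg_add_cancel, stalkLin_zero'])

/-- The antisymmetrised section. -/
def Θ {N : X.Modules} {ι : Type} [Fintype ι] {m : ℕ} (L R : ι → Fin m) (α : Fin m → (N ⟶ Coh.structureModule X)) :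
    CohB1.tensorMod N N ⟶ ∐ fun _ : Fin m => N :=
  ∑ j, (mulL N (α (R j)) ≫ Sigma.ι (fun _ : Fin m => N) (L j) -
    mulL N (α (L j)) ≫ Sigma.ι (fun _ : Fin m => N) (R j))

theorem Θ_comp {N : X.Modules} (hN : PicF.IsInvertible N) {ι : Type} [Fintype ι] {m : ℕ} (L R : ι → Fin m)
    (b : (∐ fun _ : Fin m => N) ⟶ Coh.structureModule X) :
    Θ L R (fun l => Sigma.ι (fun _ : Fin m => N) l ≫ b) ≫ b = 0 := by
  rw [Θ, Preadditive.sum_comp]
  refine Finset.sum_eq_zero fun j _ => ?_
  rw [Preadditive.sub_comp, Category.assoc, Category.assoc, sub_eq_zero]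
  exact mulL_comm hN _ _

/-- A surjection onto `O` is surjective on one summand at every point. -/
theorem exists_surjective {N : X.Modules} (hN : PicF.IsInvertible N) {m : ℕ}
    (b : (∐ fun _ : Fin m => N) ⟶ Coh.structureModule X) [Epi b] (x : X) :
    ∃ l : Fin m, Function.Surjective (stalkLin (Sigma.ι (fun _ : Fin m => N) l ≫ b) x) := by
  classical
  by_contra hcon
  push_neg at hcon
  let π : Fin m → ((∐ fun _ : Fin m => N) ⟶ N) := fun j => Sigma.desc (fun i : Fin m => if i = j then 𝟙 N else 0)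
  have hid : (∑ j : Fin m, π j ≫ Sigma.ι (fun _ : Fin m => N) j) = 𝟙 _ := by
    refine Sigma.hom_ext _ _ fun i => ?_
    rw [Preadditive.comp_sum, Category.comp_id, Finset.sum_eq_single i]
    · simp [π]
    · intro j _ hj
      simp [π, Ne.symm hj]
    · simp
  have g0 := Ref1.gen_of_isGen (TensorGen.isGen_one (X := X) ⊤) (x := x) trivial
  obtain ⟨one, hone⟩ : ∃ o, o = (Coh.structureModule X).presheaf.germ ⊤ x trivial (FinCov.one X ⊤) := ⟨_, rfl⟩
  rw [← hone] at g0
  have hb : b = ∑ j : Fin m, π j ≫ Sigma.ι (fun _ : Fin m => N) j ≫ b := by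
    conv_lhs => rw [← Category.id_comp b, ← hid, Preadditive.sum_comp]
    simp only [Category.assoc]
  have hmem : ∀ (l : Fin m) (z : N.presheaf.stalk x), ∃ r ∈ IsLocalRing.maximalIdeal (X.presheaf.stalk x),
      stalkLin (Sigma.ι (fun _ : Fin m => N) l ≫ b) x z = r • one := fun l z => by
    obtain ⟨r, hr⟩ := g0.2 (stalkLin (Sigma.ι (fun _ : Fin m => N) l ≫ b) x z)
    refine ⟨r, by_contra fun hrm => hcon l fun v => ?_, hr.symm⟩
    obtain ⟨d, hd⟩ := (not_not.1 fun h => hrm ((IsLocalRing.mem_maximalIdeal _).2 h)).exists_left_inv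
    obtain ⟨q, rfl⟩ := g0.2 v
    refine ⟨(q * d) • z, ?_⟩
    rw [map_smul, ← hr, smul_smul, mul_assoc, hd, mul_one]
  obtain ⟨w, hw⟩ := (ModuleCat.epi_iff_surjective ((OX.stalk x).map b)).1 ((OX.epi_iff b).1 inferInstance x) one
  change stalkLin b x w = one at hw
  rw [hb, stalkLin_sum'] at hw
  choose r hrm hr using fun l => hmem l (stalkLin (π l) x w)
  simp only [QCoh.stalkLin_comp, ← Finset.sum_smul] at hw hr
  rw [Finset.sum_congr rfl fun l _ => hr l, ← Finset.sum_smul] at hw
  have h1 : (∑ l, r l) = 1 := g0.1 (hw.trans (one_smul _ _).symm)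
  exact (IsLocalRing.maximalIdeal.isMaximal _).ne_top
    ((Ideal.eq_top_iff_one _).2 (h1 ▸ Submodule.sum_mem _ fun l _ => hrm l))

/-- At every point the section is split. -/
theorem exists_retraction {N : X.Modules} (hN : PicF.IsInvertible N) {p m : ℕ} (e : Fin p ⊕ Fin p ≃ Fin m)
    (b : (∐ fun _ : Fin m => N) ⟶ Coh.structureModule X) [Epi b] (x : X) :
    ∃ ρ : (∐ fun _ : Fin m => N).presheaf.stalk x →ₗ[X.presheaf.stalk x] (CohB1.tensorMod N N).presheaf.stalk x,
      ρ.comp (stalkLin (Θ (fun j => e (Sum.inl j)) (fun j => e (Sum.inr j))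
        fun l => Sigma.ι (fun _ : Fin m => N) l ≫ b) x) = LinearMap.id := by
  classical
  obtain ⟨l, hl⟩ := exists_surjective hN b x
  let L : Fin p → Fin m := fun j => e (Sum.inl j)
  let R : Fin p → Fin m := fun j => e (Sum.inr j)
  let α : Fin m → (N ⟶ Coh.structureModule X) := fun l => Sigma.ι (fun _ : Fin m => N) l ≫ b
  have hπ : ∀ c : Fin m, Θ L R α ≫ Sigma.desc (fun i : Fin m => if i = c then 𝟙 N else 0) =
      ∑ j, ((if L j = c then mulL N (α (R j)) else 0) - (if R j = c then mulL N (α (L j)) else 0)) := fun c => by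
    rw [Θ, Preadditive.sum_comp]
    refine Finset.sum_congr rfl fun j _ => ?_
    rw [Preadditive.sub_comp, Category.assoc, Category.assoc, Sigma.ι_desc, Sigma.ι_desc]
    split_ifs <;> simp
  obtain ⟨s, hs⟩ : ∃ s, e s = l := ⟨e.symm l, e.apply_symm_apply l⟩
  have key : ∃ (c : Fin m) (φ : CohB1.tensorMod N N ⟶ N), Function.Bijective (stalkLin φ x) ∧
      Θ L R α ≫ Sigma.desc (fun i : Fin m => if i = c then 𝟙 N else 0) = φ := by
    have hbij := bijective_mulL hN (α l) x hl
    rcases s with j₀ | j₀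
    · refine ⟨R j₀, -(mulL N (α l)), ?_, ?_⟩
      · rw [show stalkLin (-(mulL N (α l))) x = -(stalkLin (mulL N (α l)) x) from
          LinearMap.ext fun z => stalkLin_neg' _ x z]
        exact (LinearEquiv.neg (X.presheaf.stalk x)).bijective.comp hbij
      · rw [hπ, Finset.sum_eq_single j₀ (fun j _ hj => ?_) (by simp)]
        · rw [if_neg (by simp [L, R]), if_pos rfl, zero_sub, show L j₀ = l from hs]
        · rw [if_neg (by simp [L, R]), if_neg (by simp [R, hj]), sub_zero]
    · refine ⟨L j₀, mulL N (α l), hbij, ?_⟩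
      rw [hπ, Finset.sum_eq_single j₀ (fun j _ hj => ?_) (by simp)]
      · rw [if_pos rfl, if_neg (by simp [L, R]), sub_zero, show R j₀ = l from hs]
      · rw [if_neg (by simp [L, hj]), if_neg (by simp [L, R]), sub_zero]
  obtain ⟨c, φ, hφ, hc⟩ := key
  refine ⟨(LinearEquiv.ofBijective _ hφ).symm.toLinearMap ∘ₗ
    stalkLin (Sigma.desc (fun i : Fin m => if i = c then 𝟙 N else 0)) x, LinearMap.ext fun z => ?_⟩
  rw [LinearMap.comp_apply, LinearMap.comp_apply, ← QCoh.stalkLin_comp, hc]
  exact (LinearEquiv.ofBijective _ hφ).symm_apply_apply z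

variable [IsLocallyNoetherian X]

/-- The cokernel of a map from an invertible module which splits at every point. -/
theorem isFinLocFreeOfRank_coker {A B : X.Modules} (hA : PicF.IsInvertible A) {r : ℕ}
    (hB : FlatMod.IsFinLocFreeOfRank (r + 1) B) (θ : A ⟶ B)
    (h : ∀ x : X, ∃ ρ : B.presheaf.stalk x →ₗ[X.presheaf.stalk x] A.presheaf.stalk x,
      ρ.comp (stalkLin θ x) = LinearMap.id) :
    Mono θ ∧ FlatMod.IsFinLocFreeOfRank r (cokernel θ) := by
  have hinj : ∀ x, Function.Injective (stalkLin θ x) := fun x => by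
    obtain ⟨ρ, hρ⟩ := h x
    exact Function.LeftInverse.injective (g := ρ) fun z => LinearMap.congr_fun hρ z
  haveI : Mono θ := (OX.mono_iff θ).2 fun x => (ModuleCat.mono_iff_injective _).2 (hinj x)
  refine ⟨inferInstance, ?_⟩
  have hA1 : FlatMod.IsFinLocFreeOfRank 1 A := fun y => by
    obtain ⟨U, hy, ⟨φ⟩⟩ := hA y
    exact ⟨U, hy, ⟨φ ≪≫ (coproductUniqueIso fun _ : Fin 1 => Coh.structureModule (↑U)).symm⟩⟩
  have hAc := Euler.isCoh_of_isFinLocFree (FinCov.isFinLocFree_of_rank hA1)
  have hBc := Euler.isCoh_of_isFinLocFree (FinCov.isFinLocFree_of_rank hB)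
  have hCc : Coh.IsCoh (cokernel θ) := QCoh.isCoh_cokernel θ hAc hBc
  refine OmegaFree.isFinLocFreeOfRank_of_free_stalks hCc r fun x => ?_
  obtain ⟨ρ, hρ⟩ := h x
  have hS := (OX.shortExact_iff _).1 ({ exact := ShortComplex.exact_of_g_is_cokernel _ (cokernelIsCokernel θ) } :
    (ShortComplex.mk θ (cokernel.π θ) (cokernel.condition θ)).ShortExact) x
  have hsurj : Function.Surjective (stalkLin (cokernel.π θ) x) := (ModuleCat.epi_iff_surjective _).1 hS.epi_g
  have hex : Function.Exact (stalkLin θ x) (stalkLin (cokernel.π θ) x) :=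
    (ShortComplex.ShortExact.moduleCat_exact_iff_function_exact _).1 hS.exact
  obtain ⟨bB⟩ := OmegaFree.exists_basis_stalk hB x
  obtain ⟨V, g, hxV, hg⟩ := InvExt.exists_gen_nhd hA x
  let bA : Module.Basis (Fin 1) (X.presheaf.stalk x) (A.presheaf.stalk x) :=
    (Module.Basis.singleton (Fin 1) (X.presheaf.stalk x)).map
      (LinearEquiv.ofBijective (LinearMap.toSpanSingleton _ _ (A.presheaf.germ V x hxV g))
        (Ref1.gen_of_isGen hg hxV))
  haveI := Module.Free.of_basis bB
  haveI := Module.Finite.of_basis bB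
  haveI := Module.Free.of_basis bA
  haveI := Module.Finite.of_basis bA
  obtain ⟨e, -⟩ : ∃ e : B.presheaf.stalk x ≃ₗ[X.presheaf.stalk x]
      A.presheaf.stalk x × (cokernel θ).presheaf.stalk x, True :=
    ⟨(hex.splitInjectiveEquiv hsurj ⟨ρ, hρ⟩).1, trivial⟩
  haveI : Module.Projective (X.presheaf.stalk x) ((cokernel θ).presheaf.stalk x) :=
    Module.Projective.of_split (e.symm.toLinearMap ∘ₗ LinearMap.inr _ _ _)
      (LinearMap.snd _ _ _ ∘ₗ e.toLinearMap) (LinearMap.ext fun z => by simp)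
  haveI := QCoh.stalk_finite (cokernel θ) hCc x
  haveI : Module.FinitePresentation (X.presheaf.stalk x) ((cokernel θ).presheaf.stalk x) :=
    Module.finitePresentation_of_projective _ _
  haveI : Module.Free (X.presheaf.stalk x) ((cokernel θ).presheaf.stalk x) := Module.free_of_flat_of_isLocalRing
  have hr := e.finrank_eq
  rw [Module.finrank_prod, Module.finrank_eq_card_basis bB, Module.finrank_eq_card_basis bA,
    Fintype.card_fin, Fintype.card_fin] at hr
  exact ⟨(Module.finBasis _ _).reindex (finCongr (by omega))⟩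

end GrothLib.NullCorrEx28
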